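import Groth.Agent.H26Hyper.Linear
import Mathlib

/-!
# Hypercohomology in a degree to which a single term contributes
-/

set_option autoImplicit false
set_option linter.style.haveILetI false

universe w w' v u u'

open CategoryTheory CategoryTheory.Limits CategoryTheory.Pretriangulated HomologicalComplex E1Deg KLinDR

namespace Groth.Agent.H27Hyper

open Groth.Agent.H26Hyper

variable {A : Type u} [Category.{v} A] [Abelian A] [HasDerivedCategory.{w} A] {T : A}

/-- Exactness at the last term of a short exact sequence of complexes. -/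
lemma HTmap_surjective_of_subsingleton {S : ShortComplex (CochainComplex A ℤ)} (hS : S.ShortExact) (n m : ℤ)
    (hm : n + 1 = m) (h₁ : Subsingleton (HT T S.X₁ m)) : Function.Surjective (HTmap T S.g n) := by
  intro x
  have hT := rot_of_distTriang _
    (Triangle.shift_distinguished _ (DerivedCategory.triangleOfSES_distinguished hS) n)
  obtain ⟨y, hy⟩ := Triangle.coyoneda_exact₂ _ hT x (by
    let e : (shiftFunctor (DerivedCategory A) (1 : ℤ)).obj
        ((shiftFunctor (DerivedCategory A) n).obj (DerivedCategory.Q.obj S.X₁)) ≅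
        (shiftFunctor (DerivedCategory A) m).obj (DerivedCategory.Q.obj S.X₁) :=
      ((shiftFunctorAdd' (DerivedCategory A) n 1 m hm).app _).symm
    exact (cancel_mono e.hom).1 (h₁.elim _ _))
  let y' : HT T S.X₂ n := y
  refine ⟨n.negOnePow • y', ?_⟩
  rw [HTmap_apply, Units.smul_def, Preadditive.zsmul_comp]
  refine Eq.trans ?_ hy.symm
  show ((n.negOnePow : ℤˣ) : ℤ) • (y' ≫ _) = y' ≫ (n.negOnePow •
    (shiftFunctor (DerivedCategory A) n).map (DerivedCategory.Q.map S.g))
  rw [Units.smul_def, Preadditive.comp_zsmul]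

variable [HasExt.{w'} A]

/-- The truncation above `i` has no cohomology in degree `n` if none of its terms contributes. -/
lemma subsingleton_HT_sigmaGE (K : CochainComplex A ℤ) (i N n : ℤ) (hN : ∀ m, N < m → IsZero (K.X m))
    (h : ∀ (p : ℤ) (q : ℕ), i ≤ p → p + q = n → Subsingleton (Abelian.Ext.{w'} T (K.X p) q)) :
    Subsingleton (HT T (sigmaGE K i) n) := by
  refine subsingleton_HT (sigmaGE K i) i N n (fun m hm => isZero_sigmaGE_of_lt K hm) (fun m hm => ?_)
    (fun p q hp _ hpq => ?_)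
  · by_cases hmi : m < i
    · exact isZero_sigmaGE_of_lt K hmi
    · obtain ⟨k, hk⟩ := exists_emb (le_of_not_gt hmi)
      exact (hN m hm).of_iso (K.stupidTruncXIso (emb i) hk)
  · obtain ⟨k, hk⟩ := exists_emb hp
    haveI := h p q hp hpq
    exact (E1Deg.extCongrRight T (K.stupidTruncXIso (emb i) hk) q).toEquiv.subsingleton

lemma subsingleton_HT_single (X : A) (i n : ℤ) (h : ∀ q : ℕ, i + q = n → Subsingleton (Abelian.Ext.{w'} T X q)) :
    Subsingleton (HT T ((HomologicalComplex.single A (ComplexShape.up ℤ) i).obj X) n) := by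
  by_cases hni : n < i
  · exact subsingleton_HT_single_of_lt _ hni
  · haveI := h (n - i).toNat (by omega)
    exact (HTsingleEquiv T X i n (n - i).toNat (by omega)).toEquiv.subsingleton

/-- The terms below `i₀` do not contribute. -/
lemma bijective_HTmap_sigmaGEι (K : CochainComplex A ℤ) (a i₀ n : ℤ) (ha : ∀ m, m < a → IsZero (K.X m))
    (hai : a ≤ i₀)
    (h : ∀ (p : ℤ) (q : ℕ), p < i₀ → p + q = n → Subsingleton (Abelian.Ext.{w'} T (K.X p) q))
    (h' : ∀ (p : ℤ) (q : ℕ), p < i₀ → p + q + 1 = n → Subsingleton (Abelian.Ext.{w'} T (K.X p) q)) :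
    Function.Bijective (HTmap T (sigmaGEι K i₀) n) := by
  have key : ∀ (j : ℕ) (i : ℤ), a ≤ i → i + j = i₀ →
      ∃ φ : sigmaGE K i₀ ⟶ sigmaGE K i, φ ≫ sigmaGEι K i = sigmaGEι K i₀ ∧ Function.Bijective (HTmap T φ n) := by
    intro j
    induction j with
    | zero =>
      intro i _ hi
      obtain rfl : i = i₀ := by omega
      refine ⟨𝟙 _, Category.id_comp _, ?_⟩
      rw [show ⇑(HTmap T (𝟙 (sigmaGE K i)) n) = id from funext fun x => HTmap_id T (sigmaGE K i) n x]
      exact Function.bijective_id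
    | succ j ih =>
      intro i hai' hi
      obtain ⟨φ, hφ, hb⟩ := ih (i + 1) (by omega) (by omega)
      refine ⟨φ ≫ sigmaGEιSucc K i, by rw [Category.assoc, sigmaGEιSucc_comp_ι, hφ], ?_⟩
      have hb' : Function.Bijective (HTmap T (sigmaGEιSucc K i) n) := by
        refine ⟨HTmap_injective_of_subsingleton (stepSES_shortExact K i) n (n - 1) (by omega)
          (subsingleton_HT_single (K.X i) i (n - 1) fun q hq => h' i q (by omega) (by omega)), fun x => ?_⟩
        exact HTmap_exact (stepSES_shortExact K i) n x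
          ((subsingleton_HT_single (K.X i) i n fun q hq => h i q (by omega) hq).elim _ _)
      rw [show ⇑(HTmap T (φ ≫ sigmaGEιSucc K i) n) = HTmap T (sigmaGEιSucc K i) n ∘ HTmap T φ n from
        funext fun x => HTmap_comp T φ (sigmaGEιSucc K i) n x]
      exact hb'.comp hb
  obtain ⟨φ, hφ, hb⟩ := key (i₀ - a).toNat a le_rfl (by omega)
  haveI := isIso_sigmaGEι K a ha
  rw [← hφ, show ⇑(HTmap T (φ ≫ sigmaGEι K a) n) = HTmap T (sigmaGEι K a) n ∘ HTmap T φ n from
    funext fun x => HTmap_comp T φ _ n x]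
  refine Function.Bijective.comp (Function.bijective_iff_has_inverse.2 ⟨HTmap T (inv (sigmaGEι K a)) n,
    fun x => ?_, fun x => ?_⟩) hb
  · rw [← HTmap_comp, IsIso.hom_inv_id, HTmap_id]
  · rw [← HTmap_comp, IsIso.inv_hom_id, HTmap_id]

/-- The projection of the truncation to its bottom term. -/
lemma bijective_HTmap_sigmaGEπ (K : CochainComplex A ℤ) (i₀ N n : ℤ) (hN : ∀ m, N < m → IsZero (K.X m))
    (h : ∀ (p : ℤ) (q : ℕ), i₀ < p → p + q = n → Subsingleton (Abelian.Ext.{w'} T (K.X p) q))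
    (h' : ∀ (p : ℤ) (q : ℕ), i₀ < p → p + q = n + 1 → Subsingleton (Abelian.Ext.{w'} T (K.X p) q)) :
    Function.Bijective (HTmap T (sigmaGEπ K i₀) n) := by
  refine ⟨?_, HTmap_surjective_of_subsingleton (stepSES_shortExact K i₀) n (n + 1) rfl
    (subsingleton_HT_sigmaGE K (i₀ + 1) N (n + 1) hN fun p q hp hq => h' p q (by omega) hq)⟩
  rw [injective_iff_map_eq_zero]
  intro x hx
  obtain ⟨y, rfl⟩ := HTmap_exact (stepSES_shortExact K i₀) n x hx
  rw [(subsingleton_HT_sigmaGE K (i₀ + 1) N n hN fun p q hp hq => h p q (by omega) hq).elim y 0, map_zero]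

variable {R : Type u'} [CommRing R]

/-- If only the term in degree `i₀` contributes in degree `n`, it computes `H^n`. -/
theorem nonempty_HTρ_linearEquiv (K : CochainComplex A ℤ) (ρ : R →+* End K) (a N i₀ n : ℤ)
    (ha : ∀ m, m < a → IsZero (K.X m)) (hN : ∀ m, N < m → IsZero (K.X m)) (hai : a ≤ i₀)
    (h : ∀ (p : ℤ) (q : ℕ), p ≠ i₀ → (p + q = n ∨ p + q + 1 = n ∨ p + q = n + 1) →
      Subsingleton (Abelian.Ext.{w'} T (K.X p) q)) :
    Nonempty (HTρ T K ρ n ≃ₗ[R]
      HTρ T ((HomologicalComplex.single A (ComplexShape.up ℤ) i₀).obj (K.X i₀)) (actSingle K ρ i₀) n) := by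
  have h1 : Function.Bijective (HTρmap T (sigmaGEι K i₀) (commutes_ι K ρ i₀) n) :=
    bijective_HTmap_sigmaGEι K a i₀ n ha hai (fun p q hp hq => h p q (by omega) (Or.inl hq))
      fun p q hp hq => h p q (by omega) (Or.inr (Or.inl hq))
  have h2 : Function.Bijective (HTρmap T (sigmaGEπ K i₀) (commutes_π K ρ i₀) n) :=
    bijective_HTmap_sigmaGEπ K i₀ N n hN (fun p q hp hq => h p q (by omega) (Or.inl hq))
      fun p q hp hq => h p q (by omega) (Or.inr (Or.inr hq))
  exact ⟨(LinearEquiv.ofBijective _ h1).symm.trans (LinearEquiv.ofBijective _ h2)⟩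

/-- The same for the underlying groups. -/
theorem nonempty_HT_addEquiv (K : CochainComplex A ℤ) (a N i₀ n : ℤ)
    (ha : ∀ m, m < a → IsZero (K.X m)) (hN : ∀ m, N < m → IsZero (K.X m)) (hai : a ≤ i₀)
    (h : ∀ (p : ℤ) (q : ℕ), p ≠ i₀ → (p + q = n ∨ p + q + 1 = n ∨ p + q = n + 1) →
      Subsingleton (Abelian.Ext.{w'} T (K.X p) q)) :
    Nonempty (HT T K n ≃+ HT T ((HomologicalComplex.single A (ComplexShape.up ℤ) i₀).obj (K.X i₀)) n) :=
  ⟨(AddEquiv.ofBijective (HTmap T (sigmaGEι K i₀) n)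
      (bijective_HTmap_sigmaGEι K a i₀ n ha hai (fun p q hp hq => h p q (by omega) (Or.inl hq))
        fun p q hp hq => h p q (by omega) (Or.inr (Or.inl hq)))).symm.trans
    (AddEquiv.ofBijective (HTmap T (sigmaGEπ K i₀) n)
      (bijective_HTmap_sigmaGEπ K i₀ N n hN (fun p q hp hq => h p q (by omega) (Or.inl hq))
        fun p q hp hq => h p q (by omega) (Or.inr (Or.inr hq))))⟩

end Groth.Agent.H27Hyper
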