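import Groth.Agent.H27Hyper.OneDegree
import Groth.Agent.H26Hyper.DR
import Groth.Agent.H10Coh.Pn.Hodge
import Mathlib

/-!
# De Rham cohomology of projective space
-/

set_option autoImplicit false
set_option linter.style.haveILetI false
set_option backward.isDefEq.respectTransparency.types false

universe u

open CategoryTheory CategoryTheory.Limits AlgebraicGeometry TopologicalSpace

namespace Groth.Agent.H27Hyper.Pn

variable (A : Type u) [CommRing A] (n : ℕ) [QuasiSeparated (CohB1.ProjSpace.toSpec n A)]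
  (D : DeRhamSh.OmegaCx (CohB1.ProjSpace.toSpec n A))

theorem subsingleton_HH_term {p q : ℕ} (h : p ≠ q ∨ n < p) :
    Subsingleton (Coh.HH (CohB1.ProjSpace n A) (D.term p) q) :=
  H10Coh.Hodge.subsingleton_offdiag (H10Coh.PnHodge.setup n A) (D.isExtPow p) h

theorem isZero_KZ_gt {m : ℤ} (hm : (n : ℤ) < m) : IsZero (D.KZ.X m) := by
  obtain ⟨p, rfl⟩ := Int.eq_ofNat_of_zero_le (by omega : 0 ≤ m)
  refine IsZero.of_iso ?_ (H26Hyper.kzXIso D p)
  exact (SheafOfModules.toSheaf _).map_isZero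
    (H10Coh.Hodge.isZero_of_gt (H10Coh.PnHodge.setup n A) (by omega) (D.isExtPow p))

theorem subsingleton_ext {p : ℤ} {q : ℕ} (h : p ≠ q ∨ (n : ℤ) < p) :
    Subsingleton (Abelian.Ext.{u} (CohCx.freeSheaf (Opens.grothendieckTopology ↥(CohB1.ProjSpace n A)) ⊤) (D.KZ.X p) q) := by
  by_cases hp : p < 0
  · have h0 := (H26Hyper.isZero_KZ_neg D hp).eq_of_src (𝟙 (D.KZ.X p)) 0
    refine subsingleton_of_forall_eq 0 fun a => ?_
    rw [← a.comp_mk₀_id, h0, Abelian.Ext.mk₀_zero, Abelian.Ext.comp_zero]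
  · obtain ⟨p, rfl⟩ := Int.eq_ofNat_of_zero_le (le_of_not_gt hp)
    haveI := subsingleton_HH_term A n D (p := p) (q := q) (by omega)
    exact ((E1Deg.extCongrRight _ (H26Hyper.kzXIso D p) q).trans
      (E1Deg.extCongrLeft (E1Deg.freeSheafIsoConstant (Opens.grothendieckTopology ↥(CohB1.ProjSpace n A))
        (isTerminalTop : IsTerminal (⊤ : (CohB1.ProjSpace n A).Opens))) _ q)).toEquiv.subsingleton_congr.2 this

variable [HasDerivedCategory.{u} (Sheaf (Opens.grothendieckTopology ↥(CohB1.ProjSpace n A)) AddCommGrpCat.{u})]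

theorem subsingleton_HdR (m : ℤ) (hm : ∀ i : ℕ, i ≤ n → m ≠ 2 * (i : ℤ)) :
    Subsingleton (DeRhamSh.HdR D m) := by
  refine H26Hyper.subsingleton_HdR D n m (fun p hp => ?_) fun p q hp hpq => subsingleton_HH_term A n D ?_
  · exact (isZero_KZ_gt A n D (m := p) (by omega)).of_iso (H26Hyper.kzXIso D p).symm
  · by_contra hc
    exact hm p hp (by omega)

theorem nonempty_HdR_addEquiv_HH (i : ℕ) (hi : i ≤ n) :
    Nonempty (DeRhamSh.HdR D (2 * (i : ℤ)) ≃+ Coh.HH (CohB1.ProjSpace n A) (D.term i) i) := by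
  obtain ⟨e⟩ := nonempty_HT_addEquiv (T := (CohCx.freeSheaf (Opens.grothendieckTopology ↥(CohB1.ProjSpace n A)) ⊤)) D.KZ 0 n (i : ℤ) (2 * (i : ℤ))
    (fun m hm => H26Hyper.isZero_KZ_neg D hm) (fun m hm => isZero_KZ_gt A n D hm) (by omega)
    fun p q hp hpq => subsingleton_ext A n D (by omega)
  exact ⟨e.trans ((E1Deg.HTsingleEquiv _ _ (i : ℤ) (2 * (i : ℤ)) i (by omega)).trans
    ((E1Deg.extCongrRight _ (H26Hyper.kzXIso D i) i).trans
      (E1Deg.extCongrLeft (E1Deg.freeSheafIsoConstant (Opens.grothendieckTopology ↥(CohB1.ProjSpace n A))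
        (isTerminalTop : IsTerminal (⊤ : (CohB1.ProjSpace n A).Opens))) _ i)))⟩

open KLinDR in
theorem nonempty_HdR_linearEquiv_HH
    (h : KLinDR.TermwiseLinear (Coh.toGlobal (CohB1.ProjSpace.toSpec n A)) D.K D.term D.iso) (i : ℕ) (hi : i ≤ n) :
    Nonempty (KLinDR.HdR (Coh.toGlobal (CohB1.ProjSpace.toSpec n A)) D h (2 * (i : ℤ)) ≃ₗ[A]
      Coh.HH (CohB1.ProjSpace n A) (D.term i) i) := by
  obtain ⟨e⟩ := nonempty_HTρ_linearEquiv (T := (CohCx.freeSheaf (Opens.grothendieckTopology ↥(CohB1.ProjSpace n A)) ⊤)) D.KZ (KLinDR.scalar h) 0 n (i : ℤ) (2 * (i : ℤ))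
    (fun m hm => H26Hyper.isZero_KZ_neg D hm) (fun m hm => isZero_KZ_gt A n D hm) (by omega)
    fun p q hp hpq => subsingleton_ext A n D (by omega)
  let e₂ := E1Deg.freeSheafIsoConstant (Opens.grothendieckTopology ↥(CohB1.ProjSpace n A))
    (isTerminalTop : IsTerminal (⊤ : (CohB1.ProjSpace n A).Opens))
  let E : HTρ (CohCx.freeSheaf (Opens.grothendieckTopology ↥(CohB1.ProjSpace n A)) ⊤) ((HomologicalComplex.single _ (ComplexShape.up ℤ) (i : ℤ)).obj (D.KZ.X (i : ℤ)))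
      (H26Hyper.actSingle D.KZ (KLinDR.scalar h) (i : ℤ)) (2 * (i : ℤ)) ≃+ Coh.HH (CohB1.ProjSpace n A) (D.term i) i :=
    (HTρ.toHT.trans (E1Deg.HTsingleEquiv _ _ (i : ℤ) (2 * (i : ℤ)) i (by omega))).trans
      ((E1Deg.extCongrRight _ (H26Hyper.kzXIso D i) i).trans (E1Deg.extCongrLeft e₂ _ i))
  have hE : ∀ (a : A) x, E (a • x) = a • E x := by
    intro a x
    have h1 : ((KLinDR.scalar h a : D.KZ ⟶ D.KZ).f (i : ℤ)) ≫ (H26Hyper.kzXIso D i).hom =
        (H26Hyper.kzXIso D i).hom ≫ Coh.smulAb (D.term i) (Coh.toGlobal (CohB1.ProjSpace.toSpec n A) a) := by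
      show (KLinDR.scalar h a : D.K.extend ComplexShape.embeddingUpNat ⟶ _).f (i : ℤ) ≫ _ = _
      rw [KLinDR.scalar_f]
      simp [H26Hyper.kzXIso, KLinDR.scalarEnd]
    show (Abelian.Ext.mk₀ e₂.inv).comp
        ((E1Deg.HTsingleEquiv _ _ (i : ℤ) (2 * (i : ℤ)) i (by omega) (E1Deg.HTmap _
          ((HomologicalComplex.single _ (ComplexShape.up ℤ) (i : ℤ)).map ((KLinDR.scalar h a : D.KZ ⟶ D.KZ).f (i : ℤ)))
          (2 * (i : ℤ)) (HTρ.toHT x))).comp (Abelian.Ext.mk₀ (H26Hyper.kzXIso D i).hom) (add_zero i)) (zero_add i) =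
      ((Abelian.Ext.mk₀ e₂.inv).comp
        ((E1Deg.HTsingleEquiv _ _ (i : ℤ) (2 * (i : ℤ)) i (by omega) (HTρ.toHT x)).comp
          (Abelian.Ext.mk₀ (H26Hyper.kzXIso D i).hom) (add_zero i)) (zero_add i)).comp
        (Abelian.Ext.mk₀ (Coh.smulAb (D.term i) (Coh.toGlobal (CohB1.ProjSpace.toSpec n A) a))) (add_zero i)
    rw [H26Hyper.HTsingleEquiv_naturality]
    simp only [Abelian.Ext.comp_assoc_of_third_deg_zero, Abelian.Ext.mk₀_comp_mk₀]
    rw [h1]
  exact ⟨e.trans { E with map_smul' := hE }⟩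

theorem nonempty_HH_diag (i : ℕ) (hi : i ≤ n) :
    Nonempty (Coh.HH (CohB1.ProjSpace n A) (D.term i) i ≃ₗ[A] A) :=
  H10Coh.Hodge.nonempty_diag (H10Coh.PnHodge.setup n A) (H10Coh.PnHodge.nonempty_linearEquiv_structure n A) i hi
    (D.isExtPow i)

end Groth.Agent.H27Hyper.Pn
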